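import Cfsg.Agent.Lib.Comp.Th9.Perm
import Cfsg.Agent.Lib.Comp.Fin

set_option maxRecDepth 100000
set_option Elab.async false

namespace Cfsg.Lib.Comp.Th9

universe u

theorem act : cnd (transB nets L [4,5,6,4,5,4] 9) (fxB 16 4 9 nets L) false = true := by decide +kernel

theorem triv : Rels (gp nets) [([1], 0), ([3], 0)] := rels_of_relsB (k := 4) nets_ok (by norm_num) (by decide +kernel)

theorem alt (h : Nat.card (cl (gp nets) L) = 181440) : Nonempty (cl (gp nets) L ≃* alternatingGroup (Fin 9)) := by
  have h1 := act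
  rw [cnd_tt] at h1
  obtain ⟨H, e, -⟩ := exists_fin (transOn_of_transB nets_ok (Subgroup.range_subtype _) h1.1)
    (faith_of_fx fun _ => fx_of_fxB nets_ok (by norm_num) (by norm_num) h1.2)
  have h2 := H.index_mul_card
  rw [← Nat.card_congr e.toEquiv, h, Nat.card_perm, Nat.card_fin] at h2
  exact ⟨e.trans (MulEquiv.subgroupCongr (Equiv.Perm.eq_alternatingGroup_of_index_eq_two (by
    rw [show Nat.factorial 9 = 362880 from rfl] at h2; omega)))⟩

end Cfsg.Lib.Comp.Th9
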