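import Cfsg.Agent.Lib.Comp.Th9.Base

set_option maxRecDepth 100000
set_option Elab.async false

namespace Cfsg.Lib.Comp.Th9

universe u

noncomputable def nets_4 : Net :=
 (Net.cons 8 (nat_lit 0x40)
 (Net.cons 4 (nat_lit 0x402)
 (Net.cons 2 (nat_lit 0x2)
 (Net.cons 1 (nat_lit 0x11)
 (Net.cons 2 (nat_lit 0x120)
 (Net.cons 4 (nat_lit 0x409)
 (Net.cons 8 (nat_lit 0x40)
 Net.nil)))))))

noncomputable def nets_5 : Net :=
 (Net.cons 8 (nat_lit 0x80)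
 (Net.cons 4 (nat_lit 0x808)
 (Net.cons 2 (nat_lit 0x202)
 (Net.cons 1 (nat_lit 0x104)
 (Net.cons 2 (nat_lit 0x232)
 (Net.cons 4 (nat_lit 0x808)
 (Net.cons 8 (nat_lit 0x80)
 Net.nil)))))))

noncomputable def nets_6 : Net :=
 (Net.cons 8 (nat_lit 0xfc)
 (Net.cons 1 (nat_lit 0x4400)
 (Net.cons 2 (nat_lit 0x3000)
 (Net.cons 4 (nat_lit 0x500)
 (Net.cons 8 (nat_lit 0xfc)
 Net.nil)))))

noncomputable def nets_8 : Net :=
 (Net.cons 8 (nat_lit 0x30)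
 (Net.cons 4 (nat_lit 0x208)
 (Net.cons 1 (nat_lit 0x140)
 (Net.cons 4 (nat_lit 0x300)
 (Net.cons 8 (nat_lit 0x30)
 Net.nil)))))

noncomputable def nets_10 : Net :=
 (Net.cons 4 (nat_lit 0x8)
 (Net.cons 1 (nat_lit 0x50)
 (Net.cons 4 (nat_lit 0x8)
 Net.nil)))

noncomputable def nets_64 : Net :=
 (Net.cons 8 (nat_lit 0x10)
 (Net.cons 4 (nat_lit 0x108)
 (Net.cons 8 (nat_lit 0x10)
 Net.nil)))

noncomputable def nets_65 : Net :=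
 (Net.cons 8 (nat_lit 0x40)
 (Net.cons 4 (nat_lit 0x400)
 (Net.cons 2 (nat_lit 0x20)
 (Net.cons 1 (nat_lit 0x10)
 (Net.cons 2 (nat_lit 0x120)
 (Net.cons 4 (nat_lit 0x400)
 (Net.cons 8 (nat_lit 0x40)
 Net.nil)))))))

noncomputable def nets_66 : Net :=
 (Net.cons 1 (nat_lit 0x50)
 Net.nil)

noncomputable def nets_67 : Net :=
 (Net.cons 8 (nat_lit 0x10)
 (Net.cons 1 (nat_lit 0x40)
 (Net.cons 4 (nat_lit 0x100)
 (Net.cons 8 (nat_lit 0x10)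
 Net.nil))))

noncomputable def nets_68 : Net :=
 (Net.cons 1 (nat_lit 0x40)
 (Net.cons 2 (nat_lit 0x20)
 Net.nil))

noncomputable def nets_70 : Net :=
 (Net.cons 8 (nat_lit 0x20)
 (Net.cons 4 (nat_lit 0x200)
 (Net.cons 1 (nat_lit 0x140)
 (Net.cons 4 (nat_lit 0x200)
 (Net.cons 8 (nat_lit 0x20)
 Net.nil)))))

noncomputable def nets_71 : Net :=
 (Net.cons 8 (nat_lit 0xc0)
 (Net.cons 4 (nat_lit 0xc00)
 (Net.cons 1 (nat_lit 0x400)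
 (Net.cons 2 (nat_lit 0x100)
 (Net.cons 4 (nat_lit 0xc00)
 (Net.cons 8 (nat_lit 0xc0)
 Net.nil))))))

noncomputable def nets : List Net := (apd [Net.nil,
 Net.nil,
 Net.nil,
 Net.nil,
 nets_4,
 nets_5,
 nets_6,
 Net.rev nets_6,
 nets_8,
 Net.rev nets_8,
 nets_10,
 Net.rev nets_10,
 Net.nil,
 Net.nil,
 Net.nil,
 Net.nil,
 Net.nil,
 Net.nil,
 Net.nil,
 Net.nil,
 Net.nil,
 Net.nil,
 Net.nil,
 Net.nil,
 Net.nil,
 Net.nil,
 Net.nil,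
 Net.nil,
 Net.nil,
 Net.nil,
 Net.nil,
 Net.nil,
 Net.nil,
 Net.nil,
 Net.nil,
 Net.nil,
 Net.nil,
 Net.nil,
 Net.nil,
 Net.nil]
 [Net.nil,
 Net.nil,
 Net.nil,
 Net.nil,
 Net.nil,
 Net.nil,
 Net.nil,
 Net.nil,
 Net.nil,
 Net.nil,
 Net.nil,
 Net.nil,
 Net.nil,
 Net.nil,
 Net.nil,
 Net.nil,
 Net.nil,
 Net.nil,
 Net.nil,
 Net.nil,
 Net.nil,
 Net.nil,
 Net.nil,
 Net.nil,
 nets_64,
 nets_65,
 nets_66,
 nets_67,
 nets_68,
 Net.rev nets_68,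
 nets_70,
 nets_71,
 Net.rev nets_71])

theorem nets_ok : NetsOK 16 nets := netsOK_of (by decide +kernel)

theorem nets_rel : Rels (gp nets) R := rels_of_relsB (k := 4) nets_ok (by norm_num) (by decide +kernel)

theorem nets_iv : IvOK (gp nets) iv := ivOK_of_ivB (k := 4) nets_ok (by norm_num) (by decide +kernel)

noncomputable def slp : List (ℕ × List ℕ) := [(64,[4,11,4]),
 (65,[7,10,8,6]),
 (66,[9,64]),
 (67,[10,9]),
 (68,[67,65,66,65]),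
 (69,[65,66,65,67]),
 (70,[66,67,66]),
 (71,[69,70,69]),
 (72,[68,70,68])]

theorem slp_ok : slpB 16 4 nets slp L = true := by decide +kernel

theorem mem_all {x : ℕ} (h : x ∈ L ++ slp.map (·.1)) : gp nets x ∈ cl (gp nets) L :=
  cl_eq_of_slpB nets_ok (by norm_num) slp_ok ▸ mem_cl h

theorem lb : 181440 ≤ Nat.card (cl (gp nets) L) := by
  rw [← cl_eq_of_slpB nets_ok (by norm_num) slp_ok]
  exact lb_of_chainB nets_ok (C := [([1,3,5,6,7,8,9,10,11,64,65,66,67,68,69,70,71,72],[4,5,6,4,5,4],0,0,9),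
 ([1,3,6,7,8,9,10,11,64,65,66,67,68,69,70,71,72],[5,6,5,6,5],1,1,8),
 ([1,3,8,9,10,11,64,65,66,67,68,69,70,71,72],[6,6,65,6],2,2,7),
 ([1,3,65,66,67,68,69,70,71,72],[8,8,65,8],3,3,6),
 ([1,3,68,69,70,71,72],[65,66,65],4,4,5),
 ([1,3,71,72],[68,70],5,5,4),
 ([1,3],[71,71],6,6,3)]) (by decide +kernel)

end Cfsg.Lib.Comp.Th9
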